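import Groth.Agent.ArtfunDeform.SqZeroObs.Lift
import Groth.Agent.ArtfunDeform.VbLift.Def
import Groth.Agent.CohBase.AffinePush
import Groth.Agent.CohTwo.SheafHomIso
import Groth.Agent.LocFree.Hom
import Groth.Agent.Duality.SheafHomExt
import Groth.Agent.SmoothExt.Bridge

/-!
Lifting of finite locally free modules along small extensions of deformations when the endomorphisms
have no second cohomology.
-/

set_option autoImplicit false
set_option linter.style.longLine false

noncomputable section

universe u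

open CategoryTheory CategoryTheory.Limits AlgebraicGeometry
open ArtFun ArtFun.Art
open Groth.Misc7.ClosedImm
open Groth.CohTwo.LocFreeExt (tR flipIso)

namespace Groth.ArtfunDeform.SqZeroObs

attribute [local instance] Abelian.hasFiniteBiproducts

/-- The second Ext into a finite biproduct vanishes with the components. -/
theorem subsingleton_ext_biproduct {C : Type*} [Category C] [Abelian C] [HasExt.{u} C] {n d : ℕ} (M : C)
    (O : Fin n → C) (h : ∀ l, Subsingleton (Abelian.Ext.{u} M (O l) d)) :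
    Subsingleton (Abelian.Ext.{u} M (⨁ O) d) := by
  refine subsingleton_of_forall_eq 0 fun a => ?_
  have e : a = ∑ l, (a.comp (Abelian.Ext.mk₀ (biproduct.π O l)) (add_zero d)).comp
      (Abelian.Ext.mk₀ (biproduct.ι O l)) (add_zero d) := by
    conv_lhs => rw [← Abelian.Ext.comp_mk₀_id a, ← biproduct.total, Abelian.Ext.mk₀_sum, Abelian.Ext.comp_sum]
    exact Finset.sum_congr rfl fun l _ => by
      rw [Abelian.Ext.comp_assoc_of_second_deg_zero, Abelian.Ext.mk₀_comp_mk₀]
  rw [e]
  exact Finset.sum_eq_zero fun l _ => by rw [(h l).elim (a.comp _ _) 0, Abelian.Ext.zero_comp]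

variable {k : Type u} [Field k]

/-- Sheaf Hom into a direct image is the direct image of the sheaf Hom of the restriction. -/
theorem nonempty_sheafHom_push {Z S : Scheme.{u}} (i : Z ⟶ S) (E : S.Modules) [DCoh.HasSheafHom E]
    (N : Z.Modules) [DCoh.HasSheafHom ((Scheme.Modules.pullback i).obj E)] :
    Nonempty ((DCoh.sheafHom E).obj ((Scheme.Modules.pushforward i).obj N) ≅
      (Scheme.Modules.pushforward i).obj ((DCoh.sheafHom ((Scheme.Modules.pullback i).obj E)).obj N)) := by
  let A := Scheme.Modules.pullbackPushforwardAdjunction i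
  let l₁ : tR E ⋙ Scheme.Modules.pullback i ⊣ Scheme.Modules.pushforward i ⋙ DCoh.sheafHom E :=
    ((DCoh.sheafHomAdj E).ofNatIsoLeft (flipIso E).symm).comp A
  let l₂ : Scheme.Modules.pullback i ⋙ tR ((Scheme.Modules.pullback i).obj E) ⊣
      DCoh.sheafHom ((Scheme.Modules.pullback i).obj E) ⋙ Scheme.Modules.pushforward i :=
    A.comp ((DCoh.sheafHomAdj ((Scheme.Modules.pullback i).obj E)).ofNatIsoLeft
      (flipIso ((Scheme.Modules.pullback i).obj E)).symm)
  exact ⟨((l₁.ofNatIsoLeft (pullTensorIso i E)).rightAdjointUniq l₂).app N⟩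

/-- Lifts of finite locally free modules exist along a small extension when the endomorphisms of
the closed fibre have no second cohomology. -/
theorem exists_lift_def {X₀ : Scheme.{u}} {x : X₀ ⟶ Spec (CommRingCat.of k)} {C' C : Art k k} (p : C' ⟶ C)
    (hp : IsSemismallExt p) (X' : DefSch X₀ x C') (F : (X'.baseChange p).total.Modules)
    (hF : FlatMod.IsFinLocFree F) [DCoh.HasSheafHom ((Scheme.Modules.pullback (X'.baseChange p).i).obj F)]
    (h2 : Subsingleton (Coh.HH X₀ ((DCoh.sheafHom ((Scheme.Modules.pullback (X'.baseChange p).i).obj F)).obj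
        ((Scheme.Modules.pullback (X'.baseChange p).i).obj F)) 2)) :
    ∃ F' : X'.total.Modules, FlatMod.IsFinLocFree F' ∧
      Nonempty ((Scheme.Modules.pullback (pullback.fst X'.f (specMap p))).obj F' ≅ F) := by
  classical
  let T := X'.total
  let _ : T.Over (Spec (CommRingCat.of C')) := ⟨X'.f⟩
  have : Flat (T ↘ Spec (CommRingCat.of C')) := X'.flat
  let g := pullback.fst X'.f (specMap p)
  have hg : IsClosedImmersion g := MorphismProperty.of_isPullback
    (IsPullback.of_hasPullback X'.f (specMap p)).flip (IsClosedImmersion.spec_of_surjective _ hp.1)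
  have h₁ : IsPullback g (pullback.snd X'.f (specMap p)) (T ↘ Spec (CommRingCat.of C'))
      (Spec.map (CommRingCat.ofHom p.toAlgHom.toRingHom)) := IsPullback.of_hasPullback _ _
  have h₀ : IsPullback X'.i x (T ↘ Spec (CommRingCat.of C'))
      (Spec.map (CommRingCat.ofHom C'.res.toRingHom)) := X'.isPullback
  have hi : IsClosedImmersion X'.i := MorphismProperty.of_isPullback h₀.flip
    (IsClosedImmersion.spec_of_surjective _ C'.res_surjective)
  let t := fun j => ((HilbObs.kerBasis p j : HilbObs.kerSub p) : C')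
  have ht0 : ∀ j, p (t j) = 0 := fun j => (HilbObs.kerBasis p j).2
  have ht : RingHom.ker p.toAlgHom.toRingHom = Ideal.span (Set.range t) :=
    le_antisymm (fun a ha => HilbObs.ker_le_span p a ha) (Ideal.span_le.2 (by rintro _ ⟨j, rfl⟩; exact ht0 j))
  have kill : ∀ c ∈ RingHom.ker C'.res.toRingHom, ∀ j, t j * c = 0 := fun c hc j => by
    have hm : c ∈ IsLocalRing.maximalIdeal C' := (C'.mem_maximalIdeal_iff c).2 hc
    have := Ideal.mul_mem_mul hm (show t j ∈ RingHom.ker p.toAlgHom from ht0 j)
    rw [hp.2, Ideal.mem_bot] at this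
    rw [mul_comm, this]
  have indep : ∀ c : Fin _ → C', ∑ j, t j * c j = 0 → ∀ j, c j ∈ RingHom.ker C'.res.toRingHom := fun c h j => by
    have hli : LinearIndependent k t :=
      (HilbObs.kerBasis p).linearIndependent.map' (HilbObs.kerSub p).subtype (Submodule.ker_subtype _)
    refine Fintype.linearIndependent_iff.1 hli (fun l => C'.res (c l)) ?_ j
    rw [← h]
    refine Finset.sum_congr rfl fun l _ => ?_
    rw [Algebra.smul_def, mul_comm, ← sub_eq_zero, ← mul_sub]
    refine kill _ ?_ l
    rw [RingHom.mem_ker, map_sub, sub_eq_zero]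
    exact C'.res.commutes _
  have hI : g.ker ^ 2 = ⊥ := by
    ext U : 2
    rw [Scheme.IdealSheafData.ideal_pow, Pi.pow_apply, Scheme.IdealSheafData.ideal_bot, Pi.bot_apply,
      Scheme.Hom.ker_apply, VbLift.ker_app hp.1 h₁ U, ← Ideal.map_pow]
    have h2 : RingHom.ker p.toAlgHom.toRingHom ^ 2 = ⊥ := by
      rw [ht, sq, Ideal.span_mul_span', Ideal.span_eq_bot]
      rintro _ ⟨_, ⟨i, rfl⟩, _, ⟨j, rfl⟩, rfl⟩
      refine kill _ ?_ i
      exact (C'.mem_maximalIdeal_iff _).1 (IsLocalRing.le_maximalIdeal (RingHom.ker_ne_top p.toAlgHom) (ht0 j))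
    rw [h2, Ideal.map_bot]
  obtain ⟨eI⟩ := VbLift.exists_idealMod_iso hp.1 C'.res_surjective ht kill indep h₁ h₀
  let ι := g.ker.subschemeι
  let S := g.ker.subscheme
  -- the module on the closed subscheme and the closed fibre inside it
  let E₀ : S.Modules := (Scheme.Modules.pullback (inv g.toImage)).obj F
  have hE₀ : FlatMod.IsFinLocFree E₀ := Groth.LocFree.isFinLocFree_pullback _ hF
  let i₁ : X₀ ⟶ S := (X'.baseChange p).i ≫ g.toImage
  have hi₁ : i₁ ≫ ι = X'.i := by
    rw [Category.assoc]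
    exact (congrArg ((X'.baseChange p).i ≫ ·) g.toImage_imageι).trans (X'.baseChange_i_fst p)
  have hi₁c : IsClosedImmersion i₁ := by
    have : IsClosedImmersion (i₁ ≫ ι) := hi₁.symm ▸ hi
    exact IsClosedImmersion.of_comp i₁ ι
  let E := (Scheme.Modules.pushforward ι).obj E₀
  let N := (Scheme.Modules.pullback X'.i).obj E
  let F₀ := (Scheme.Modules.pullback (X'.baseChange p).i).obj F
  -- restrictions to the closed fibre
  have := Groth.Misc7.ClosedImm.isIso_counit ι
  let c : (Scheme.Modules.pullback ι).obj E ≅ E₀ :=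
    (asIso (Scheme.Modules.pullbackPushforwardAdjunction ι).counit).app E₀
  let eF : (Scheme.Modules.pullback i₁).obj E₀ ≅ F₀ :=
    (Scheme.Modules.pullbackComp i₁ (inv g.toImage)).app F ≪≫
      (Scheme.Modules.pullbackCongr (by rw [Category.assoc, IsIso.hom_inv_id, Category.comp_id])).app F
  let eN : N ≅ F₀ := (Scheme.Modules.pullbackCongr hi₁.symm).app E ≪≫
    ((Scheme.Modules.pullbackComp i₁ ι).app E).symm ≪≫ (Scheme.Modules.pullback i₁).mapIso c ≪≫ eF
  -- the Ext group
  obtain ⟨a⟩ := VbLift.exists_tensor_iso X'.i eI E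
  obtain ⟨b⟩ := VbLift.nonempty_push_biproduct X'.i
    (fun _ : Fin (Module.finrank k (HilbObs.kerSub p)) => N)
  have := Groth.CohTwo.LocFreeExt.hasSheafHom E₀
  have := Groth.CohTwo.LocFreeExt.hasSheafHom ((Scheme.Modules.pullback i₁).obj E₀)
  let _ : S.Over (Spec (CommRingCat.of C')) := ⟨ι ≫ X'.f⟩
  have hext : Subsingleton (Abelian.Ext.{u} E₀ ((Scheme.Modules.pushforward i₁).obj N) 2) := by
    obtain ⟨L⟩ := Groth.Duality.SheafHom.nonempty_ext_linearEquiv (A := C') E₀ hE₀ 2
      ((Scheme.Modules.pushforward i₁).obj N)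
    refine @Equiv.subsingleton _ _ L.toEquiv ?_
    obtain ⟨e⟩ := nonempty_sheafHom_push i₁ E₀ N
    refine Groth.SmoothExt.subsingleton_hh_of_iso e.symm ?_
    have hq : ((DCoh.sheafHom ((Scheme.Modules.pullback i₁).obj E₀)).obj N).IsQuasicoherent := by
      have hN : FlatMod.IsFinLocFree N :=
        Groth.KTheory.LocFree.isFinLocFree_of_iso eN.symm (Groth.LocFree.isFinLocFree_pullback _ hF)
      have := Groth.KTheory.LocFree.isQCoh hN
      have hh : (RefHull.homSh ((Scheme.Modules.pullback i₁).obj E₀) N).IsQuasicoherent :=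
        Groth.LocFree.isQCoh_homSh_of_isFinLocFree (Groth.LocFree.isFinLocFree_pullback _ hE₀)
      exact (Groth.QCohMod.isQCoh_iff_of_iso
        (Groth.CohTwo.SheafHomIso.iso ((Scheme.Modules.pullback i₁).obj E₀) N)).2 hh
    obtain ⟨q⟩ := Groth.CohBase.nonempty_equiv_H_push i₁
      ((DCoh.sheafHom ((Scheme.Modules.pullback i₁).obj E₀)).obj N) 2
    refine @Equiv.subsingleton _ _ q.toEquiv ?_
    obtain ⟨u₁⟩ : Nonempty ((DCoh.sheafHom ((Scheme.Modules.pullback i₁).obj E₀)).obj N ≅
        (DCoh.sheafHom F₀).obj F₀) := by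
      let m : (DCoh.tensorBi (X := X₀)).obj ((Scheme.Modules.pullback i₁).obj E₀) ≅
          (DCoh.tensorBi (X := X₀)).obj F₀ := (DCoh.tensorBi (X := X₀)).mapIso eF
      exact ⟨(((DCoh.sheafHomAdj ((Scheme.Modules.pullback i₁).obj E₀)).ofNatIsoLeft m).rightAdjointUniq
          (DCoh.sheafHomAdj F₀)).app N ≪≫ (DCoh.sheafHom F₀).mapIso eN⟩
    exact Groth.SmoothExt.subsingleton_hh_of_iso u₁.symm h2
  have : HasExt.{u} S.Modules := inferInstance
  let d : (Scheme.Modules.pullback ι).obj ((Scheme.Modules.pushforward X'.i).obj N) ≅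
      (Scheme.Modules.pushforward i₁).obj N :=
    (Scheme.Modules.pullback ι).mapIso (eqToIso (congrArg (fun f => (Scheme.Modules.pushforward f).obj N) hi₁.symm) ≪≫
      ((Scheme.Modules.pushforwardComp i₁ ι).app N).symm) ≪≫
      (asIso (Scheme.Modules.pullbackPushforwardAdjunction ι).counit).app _
  have hadd : (Scheme.Modules.pullback ι).Additive :=
    (Scheme.Modules.pullbackPushforwardAdjunction ι).left_adjoint_additive
  have h2' : Subsingleton (Abelian.Ext.{u} E₀
      (CohB1.tensorMod ((Scheme.Modules.pullback ι).obj (ClSub.idealMod g.ker)) E₀) 2) := by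
    let e₁ : (Scheme.Modules.pullback ι).obj (CohB1.tensorMod (ClSub.idealMod g.ker) E) ≅
        CohB1.tensorMod ((Scheme.Modules.pullback ι).obj (ClSub.idealMod g.ker)) E₀ :=
      (pullTensorIso ι E).app (ClSub.idealMod g.ker) ≪≫
        ((DCoh.tensorBi (X := S)).obj ((Scheme.Modules.pullback ι).obj (ClSub.idealMod g.ker))).mapIso c
    let e₂ : (⨁ fun _ : Fin (Module.finrank k (HilbObs.kerSub p)) => (Scheme.Modules.pushforward i₁).obj N) ≅
        (Scheme.Modules.pullback ι).obj (CohB1.tensorMod (ClSub.idealMod g.ker) E) :=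
      (biproduct.mapIso fun _ => d.symm) ≪≫
        ((Scheme.Modules.pullback ι).mapBiproduct _).symm ≪≫ (Scheme.Modules.pullback ι).mapIso (b ≪≫ a.symm)
    exact subsingleton_ext_transport (Iso.refl E₀) (e₂ ≪≫ e₁)
      (subsingleton_ext_biproduct _ _ fun _ => hext)
  obtain ⟨F', hF', ⟨u⟩⟩ := exists_finLocFree_lift hI E₀ hE₀ h2'
  refine ⟨F', hF', ⟨?_⟩⟩
  exact (Scheme.Modules.pullbackCongr g.toImage_imageι.symm).app F' ≪≫
    ((Scheme.Modules.pullbackComp g.toImage ι).app F').symm ≪≫
    (Scheme.Modules.pullback g.toImage).mapIso u ≪≫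
    (Scheme.Modules.pullbackComp g.toImage (inv g.toImage)).app F ≪≫
    (Scheme.Modules.pullbackCongr (IsIso.hom_inv_id g.toImage)).app F ≪≫
    (Scheme.Modules.pullbackId _).app F

end Groth.ArtfunDeform.SqZeroObs
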